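import Cfsg.Agent.Lib.RankOne.NoInvariantFour
import Cfsg.Agent.Lib.Transfer.Thompson

/-!
A four group acting on a perfect group `L` so that every nontrivial element centralizes no four
group of `L`: then `L` has `2`-rank at most one.
-/

set_option autoImplicit false
set_option linter.style.haveILetI false

namespace CfsgLib.RankOne

open Subgroup
open scoped Pointwise

theorem exists_trivial_mod_four {G : Type*} [Group G] [Finite G] {U : Subgroup G}
    (hU4 : Nat.card U = 4) {R : U → ℤ → Prop} (hex : ∀ u, ∃ e, R u e ∧ ¬ (2 : ℤ) ∣ e)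
    (hmul : ∀ u v e f, R u e → R v f → R (u * v) (e * f)) (hsq : ∀ u : U, u * u = 1) :
    ∃ u : U, u ≠ 1 ∧ ∃ e, R u e ∧ (4 : ℤ) ∣ e - 1 := by
  haveI : Nontrivial U := Finite.one_lt_card_iff_nontrivial.1 (by omega)
  obtain ⟨u, hu⟩ := exists_ne (1 : U)
  obtain ⟨v, hv1, hvu⟩ : ∃ v : U, v ≠ 1 ∧ v ≠ u := by
    by_contra! h
    have h2 := Set.ncard_le_ncard (s := (Set.univ : Set U)) (t := {1, u})
      (fun w _ => by
        rcases eq_or_ne w 1 with e | e
        · exact Or.inl e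
        · exact Or.inr (h w e)) (Set.toFinite _)
    rw [Set.ncard_univ, hU4, Set.ncard_pair (Ne.symm hu)] at h2
    omega
  obtain ⟨e, he, heo⟩ := hex u
  obtain ⟨f, hf, hfo⟩ := hex v
  by_cases he4 : (4 : ℤ) ∣ e - 1
  · exact ⟨u, hu, e, he, he4⟩
  by_cases hf4 : (4 : ℤ) ∣ f - 1
  · exact ⟨v, hv1, f, hf, hf4⟩
  obtain ⟨c, hc⟩ : (4 : ℤ) ∣ e + 1 := by omega
  obtain ⟨d, hd⟩ : (4 : ℤ) ∣ f + 1 := by omega
  refine ⟨u * v, fun h => hvu ?_, e * f, hmul _ _ _ _ he hf, 4 * c * d - c - d, ?_⟩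
  · calc v = u * u * v := by rw [hsq, one_mul]
      _ = u * (u * v) := mul_assoc _ _ _
      _ = u := by rw [h, mul_one]
  · rw [show e = 4 * c - 1 by linarith, show f = 4 * d - 1 by linarith]; ring

/-- A group of order four acting on a group of order four has a nontrivial kernel. -/
theorem exists_ker_of_card_four {U W : Type*} [Group U] [Finite U] [Group W] [Finite W]
    (hUp : IsPGroup 2 U) (hU4 : Nat.card U = 4) (hW4 : Nat.card W = 4) (f : U →* MulAut W) :
    ∃ u : U, u ≠ 1 ∧ f u = 1 := by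
  classical
  haveI : Fact (Nat.Prime 2) := ⟨Nat.prime_two⟩
  letI : MulAction U W := MulAction.compHom _ f
  have hone : (1 : W) ∈ MulAction.fixedPoints U W := fun u => map_one (f u)
  obtain ⟨b, hb, hb1⟩ := hUp.exists_fixed_point_of_prime_dvd_card_of_fixed_point (α := W)
    (by rw [hW4]; norm_num) hone
  obtain ⟨c, hc1, hcb⟩ : ∃ c : W, c ≠ 1 ∧ c ≠ b := by
    by_contra! h
    have h2 := Set.ncard_le_ncard (s := (Set.univ : Set W)) (t := {1, b}) (fun w _ => by
      rcases eq_or_ne w 1 with e | e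
      · exact Or.inl e
      · exact Or.inr (h w e)) (Set.toFinite _)
    rw [Set.ncard_univ, hW4] at h2
    have h3 : ({1, b} : Set W).ncard ≤ 2 := (Set.ncard_insert_le _ _).trans (by simp)
    omega
  obtain ⟨u, hu, hu1⟩ : ∃ u ∈ MulAction.stabilizer U c, u ≠ 1 := by
    by_contra! h
    have h1 : MulAction.stabilizer U c = ⊥ := eq_bot_iff.2 fun u hu => mem_bot.2 (h u hu)
    have h2 := MulAction.index_stabilizer U c
    rw [h1, index_bot, hU4] at h2
    have h3 : MulAction.orbit U c = Set.univ := Set.eq_of_subset_of_ncard_le (Set.subset_univ _)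
      (by rw [Set.ncard_univ, hW4, h2]) (Set.toFinite _)
    obtain ⟨v, hv⟩ := h3.ge (Set.mem_univ (1 : W))
    exact hc1 ((map_eq_one_iff (f v) (f v).injective).1 hv)
  refine ⟨u, hu1, MulEquiv.ext fun w => ?_⟩
  let K : Subgroup W := (f u).toMonoidHom.eqLocus (MonoidHom.id W)
  have hsub : ({1, b, c} : Set W) ⊆ (K : Set W) := by
    rintro v (rfl | rfl | rfl)
    · exact map_one (f u)
    · exact hb u
    · exact hu
  have h3 := Set.ncard_le_ncard hsub (Set.toFinite _)
  rw [Set.ncard_insert_of_notMem (by simp [hb1, Ne.symm hc1]), Set.ncard_pair (Ne.symm hcb),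
    ← Nat.card_coe_set_eq, SetLike.coe_sort_coe] at h3
  have h4 : Nat.card K ∣ 2 ^ 2 := by
    have := K.card_subgroup_dvd_card
    rwa [hW4] at this
  obtain ⟨i, hi, hK⟩ := (Nat.dvd_prime_pow Nat.prime_two).1 h4
  have hKt : K = ⊤ := eq_top_of_card_eq K (by
    rw [hK, hW4]
    rw [hK] at h3
    interval_cases i <;> simp_all)
  exact hKt.ge (mem_top w)

theorem eq_of_four_action {G : Type*} [Group G] [Finite G] (L U : Subgroup G)
    (hperf : ⁅(⊤ : Subgroup L), (⊤ : Subgroup L)⁆ = ⊤)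
    (hUL : U ≤ normalizer (L : Set G)) (hU4 : Nat.card U = 4) (hU2 : ∀ u ∈ U, u * u = 1)
    (hfix : ∀ u ∈ U, u ≠ 1 → ∀ x ∈ L, ∀ y ∈ L, x * x = 1 → y * y = 1 → x ≠ 1 → y ≠ 1 →
      Commute x y → Commute u x → Commute u y → x = y) :
    ∀ x ∈ L, ∀ y ∈ L, x * x = 1 → y * y = 1 → x ≠ 1 → y ≠ 1 → Commute x y → x = y := by
  classical
  haveI : Fact (Nat.Prime 2) := ⟨Nat.prime_two⟩
  have hUp : IsPGroup 2 U := IsPGroup.of_card (n := 2) (by rw [hU4]; norm_num)
  set M : Subgroup G := L ⊔ U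
  have hLM : L ≤ M := le_sup_left
  have hUM : U ≤ M := le_sup_right
  have hMN : M ≤ normalizer (L : Set G) := sup_le le_normalizer hUL
  -- a Sylow subgroup of `M` through `U`
  obtain ⟨P', hUP'⟩ := (hUp.of_equiv (subgroupOfEquivOfLe hUM).symm).exists_le_sylow
  set P : Subgroup G := (P' : Subgroup M).map M.subtype with hPdef
  have hPp : IsPGroup 2 P := P'.2.map _
  have hUP : U ≤ P := fun u hu => ⟨⟨u, hUM hu⟩, hUP' (mem_subgroupOf.2 hu), rfl⟩
  have hPM : P ≤ M := map_subtype_le _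
  set S : Subgroup G := L ⊓ P with hSdef
  have hSp : IsPGroup 2 S := hPp.to_le inf_le_right
  -- `S` is a Sylow subgroup of `L`
  obtain ⟨Q, hQ⟩ := (hSp.of_equiv (subgroupOfEquivOfLe (inf_le_left : S ≤ L)).symm).exists_le_sylow
  have hQS : (Q : Subgroup L) = S.subgroupOf L := by
    refine (eq_of_le_of_card_ge hQ ?_).symm
    obtain ⟨R, hR⟩ := ((Q.2.map L.subtype).of_equiv
      (subgroupOfEquivOfLe ((map_subtype_le _).trans hLM)).symm).exists_le_sylow
    obtain ⟨g, hg⟩ := MulAction.exists_smul_eq M R P'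
    have hsub : ((Q : Subgroup L).map L.subtype).map (MulAut.conj (g : G)).toMonoidHom ≤ S := by
      rintro _ ⟨y, hy, rfl⟩
      obtain ⟨l, hl, rfl⟩ := hy
      refine mem_inf.2 ⟨(mem_normalizer_iff.1 (hMN g.2) _).1 l.2, ?_⟩
      have h1 : (⟨(l : G), hLM l.2⟩ : M) ∈ R := hR (mem_subgroupOf.2 ⟨l, hl, rfl⟩)
      refine ⟨g * ⟨(l : G), hLM l.2⟩ * g⁻¹, ?_, rfl⟩
      rw [← hg]
      exact ⟨_, h1, rfl⟩
    calc Nat.card (Q : Subgroup L)
        = Nat.card (((Q : Subgroup L).map L.subtype).map (MulAut.conj (g : G)).toMonoidHom) := by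
          rw [card_map_of_injective (MulAut.conj (g : G)).injective,
            card_map_of_injective L.subtype_injective]
      _ ≤ Nat.card S := card_le_of_le hsub
      _ = Nat.card (S.subgroupOf L) :=
          (Nat.card_congr (subgroupOfEquivOfLe (inf_le_left : S ≤ L)).toEquiv).symm
  intro x hx y hy hxx hyy hx1 hy1 hxy
  by_contra hne
  -- move `x`, `y` into `S`
  obtain ⟨E, hE, hE4, -, hEsq⟩ := CfsgLib.Invol.exists_four (T := L) (z := ⟨x, hx⟩) (x := ⟨y, hy⟩)
    (Subtype.ext hxx) (Subtype.ext hyy) (Subtype.ext hxy.eq) (fun e => hx1 (congrArg Subtype.val e))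
    (fun e => hy1 (congrArg Subtype.val e)) (fun e => hne (congrArg Subtype.val e).symm)
  obtain ⟨R, hR⟩ := (IsPGroup.of_card (n := 2) (by rw [hE4]; norm_num) : IsPGroup 2 E).exists_le_sylow
  obtain ⟨l, hl⟩ := MulAction.exists_smul_eq L R Q
  have hmove : ∀ w ∈ E, (((l * w * l⁻¹ : L)) : G) ∈ S := by
    intro w hw
    have h1 : l * w * l⁻¹ ∈ (Q : Subgroup L) := by
      rw [← hl]; exact ⟨w, hR hw, rfl⟩
    rw [hQS] at h1
    exact mem_subgroupOf.1 h1
  set x' : G := (((l * ⟨x, hx⟩ * l⁻¹ : L)) : G) with hx'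
  set y' : G := (((l * ⟨y, hy⟩ * l⁻¹ : L)) : G) with hy'
  have hx'S : x' ∈ S := hmove _ ((hE _).2 (Or.inr (Or.inl rfl)))
  have hy'S : y' ∈ S := hmove _ ((hE _).2 (Or.inr (Or.inr (Or.inl rfl))))
  have hx'' : x' = (l : G) * x * (l : G)⁻¹ := rfl
  have hy'' : y' = (l : G) * y * (l : G)⁻¹ := rfl
  have hx'x' : x' * x' = 1 := by
    rw [hx'', show ((l : G) * x * (l : G)⁻¹) * ((l : G) * x * (l : G)⁻¹) =
      (l : G) * (x * x) * (l : G)⁻¹ by group, hxx]; group
  have hy'y' : y' * y' = 1 := by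
    rw [hy'', show ((l : G) * y * (l : G)⁻¹) * ((l : G) * y * (l : G)⁻¹) =
      (l : G) * (y * y) * (l : G)⁻¹ by group, hyy]; group
  have hx'1 : x' ≠ 1 := fun e => hx1 (conj_eq_one_iff.1 (hx''.symm.trans e))
  have hy'1 : y' ≠ 1 := fun e => hy1 (conj_eq_one_iff.1 (hy''.symm.trans e))
  have hne' : x' ≠ y' := fun e => hne (by
    rw [hx'', hy''] at e; exact mul_left_cancel (mul_right_cancel e))
  -- the structure inside `P`
  set N : Subgroup P := L.subgroupOf P
  haveI : N.Normal := ⟨fun n hn g => mem_subgroupOf.2 ((mem_normalizer_iff.1 (hMN (hPM g.2)) _).1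
    (mem_subgroupOf.1 hn))⟩
  haveI : Nontrivial U := Finite.one_lt_card_iff_nontrivial.1 (by omega)
  have hno : ¬ ∃ W : Subgroup P, W ≤ N ∧ W.Normal ∧ Nat.card W = 4 ∧ ∀ w ∈ W, w * w = 1 := by
    rintro ⟨W, hWN, hWn, hW4, hWsq⟩
    -- some nontrivial element of `U` centralizes `W`
    set f : U →* MulAut W := (MulAut.conjNormal (H := W)).comp (inclusion hUP) with hf
    have hker : ∃ u : U, u ≠ 1 ∧ f u = 1 :=
      exists_ker_of_card_four hUp hU4 hW4 f
    obtain ⟨u, hu1, hu⟩ := hker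
    have hcomm : ∀ w ∈ W, Commute (u : G) (w : G) := by
      intro w hw
      have h1 : inclusion hUP u * w * (inclusion hUP u)⁻¹ = w := by
        have := congrArg Subtype.val (MulEquiv.congr_fun hu ⟨w, hw⟩)
        simpa [hf] using this
      exact congrArg Subtype.val (mul_inv_eq_iff_eq_mul.1 h1)
    obtain ⟨w₁, w₂, h12, hw1, hw2⟩ : ∃ w₁ w₂ : W, w₁ ≠ w₂ ∧ w₁ ≠ 1 ∧ w₂ ≠ 1 := by
      haveI : Nontrivial W := Finite.one_lt_card_iff_nontrivial.1 (by omega)
      obtain ⟨b, hb⟩ := exists_ne (1 : W)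
      by_contra! h
      have h2 := Set.ncard_le_ncard (s := (Set.univ : Set W)) (t := {1, b}) (fun w _ => by
        rcases eq_or_ne w b with e | e
        · exact Or.inr e
        · exact Or.inl (h b w (Ne.symm e) hb)) (Set.toFinite _)
      rw [Set.ncard_univ, hW4, Set.ncard_pair (Ne.symm hb)] at h2
      omega
    have hWc : (w₁ : P) * w₂ = w₂ * w₁ := by
      have e : ∀ w : W, (w : P)⁻¹ = w := fun w => inv_eq_of_mul_eq_one_right (hWsq w w.2)
      calc (w₁ : P) * w₂ = ((w₁ * w₂ : W) : P)⁻¹ := (e (w₁ * w₂)).symm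
        _ = w₂ * w₁ := by push_cast; rw [mul_inv_rev, e, e]
    exact h12 (Subtype.ext (Subtype.ext (hfix u u.2 (fun e => hu1 (Subtype.ext e)) _
      (mem_subgroupOf.1 (hWN w₁.2)) _ (mem_subgroupOf.1 (hWN w₂.2))
      (congrArg Subtype.val (hWsq w₁ w₁.2)) (congrArg Subtype.val (hWsq w₂ w₂.2))
      (fun e => hw1 (Subtype.ext (Subtype.ext e))) (fun e => hw2 (Subtype.ext (Subtype.ext e)))
      (congrArg Subtype.val hWc) (hcomm _ w₁.2) (hcomm _ w₂.2))))
  rcases unique_or_dihedral_shape hPp N hno with h | ⟨a, s, m, k, hm2, hm, hAn, haN, hsN, hss, hsA, hcos, hk, hk4⟩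
  · exact hne' (congrArg (Subtype.val : P → G) (h ⟨x', (mem_inf.1 hx'S).2⟩ (mem_subgroupOf.2 (mem_inf.1 hx'S).1)
      ⟨y', (mem_inf.1 hy'S).2⟩ (mem_subgroupOf.2 (mem_inf.1 hy'S).1) (Subtype.ext hx'x')
      (Subtype.ext hy'y') (fun e => hx'1 (congrArg Subtype.val e))
      (fun e => hy'1 (congrArg Subtype.val e))))
  haveI := hAn
  set z : P := a ^ ((2 ^ (m - 1) : ℕ) : ℤ) with hz
  have hzz : z * z = 1 := by
    rw [hz, ← zpow_add, ← orderOf_dvd_iff_zpow_eq_one, hm, pow_two_int (m := m) (by omega)]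
    exact ⟨1, by ring⟩
  have hz1 : z ≠ 1 := by
    intro e
    rw [hz, ← orderOf_dvd_iff_zpow_eq_one, hm, Int.natCast_dvd_natCast,
      Nat.pow_dvd_pow_iff_le_right (by norm_num)] at e
    omega
  have hzA : z ∈ zpowers a := zpow_mem (mem_zpowers a) _
  have huniq : ∀ w ∈ zpowers a, w * w = 1 → w = 1 ∨ w = z := by
    intro w hw e
    obtain ⟨j, rfl⟩ := mem_zpowers_iff.1 hw
    rw [← zpow_add, ← orderOf_dvd_iff_zpow_eq_one, hm, pow_two_int (m := m) (by omega),
      ← two_mul, mul_dvd_mul_iff_left two_ne_zero] at e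
    obtain ⟨f, rfl⟩ := e
    rcases Int.even_or_odd' f with ⟨r, rfl | rfl⟩
    · left
      rw [← orderOf_dvd_iff_zpow_eq_one, hm, pow_two_int (m := m) (by omega)]
      exact ⟨r, by ring⟩
    · right
      rw [hz, CfsgLib.Coprime.zpow_eq_iff_dvd hm, pow_two_int (m := m) (by omega)]
      exact ⟨r, by ring⟩
  have hzc : ∀ g : P, g * z = z * g := by
    intro g
    refine mul_inv_eq_iff_eq_mul.1 ?_
    rcases huniq _ (hAn.conj_mem z hzA g) (by
      rw [show (g * z * g⁻¹) * (g * z * g⁻¹) = g * (z * z) * g⁻¹ by group, hzz]; group) with e | e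
    · exact absurd (conj_eq_one_iff.1 e) hz1
    · exact e
  -- every square lies in the cyclic subgroup
  have hsqA : ∀ g : P, g * g ∈ zpowers a := by
    intro g
    have hMset : (g : G) ∈ (L : Set G) * (U : Set G) := by
      rw [← coe_mul_of_right_le_normalizer_left L U hUL]
      exact hPM g.2
    obtain ⟨n, hn, v, hv, hnv⟩ := Set.mem_mul.1 hMset
    have hnP : n ∈ P := by
      have := mul_mem g.2 (inv_mem (hUP hv))
      rwa [← hnv, mul_inv_cancel_right] at this
    set n' : P := ⟨n, hnP⟩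
    set v' : P := ⟨v, hUP hv⟩
    have hg : g = n' * v' := Subtype.ext hnv.symm
    have hvv : v' * v' = 1 := Subtype.ext (hU2 v hv)
    rw [hg, show n' * v' * (n' * v') = n' * (v' * n' * v'⁻¹) * (v' * v') by group, hvv, mul_one]
    have hn'N : n' ∈ N := mem_subgroupOf.2 hn
    have hn2 : v' * n' * v'⁻¹ ∈ N := (inferInstance : N.Normal).conj_mem _ hn'N _
    rcases hcos _ hn'N with h1 | h1
    · exact mul_mem h1 (hAn.conj_mem _ h1 v')
    · have h2 : v' * n' * v'⁻¹ * s ∈ zpowers a := by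
        refine (hcos _ hn2).resolve_left fun h3 => hsA ?_
        have h4 : n' ∈ zpowers a := by
          have := hAn.conj_mem _ h3 v'⁻¹
          rwa [show v'⁻¹ * (v' * n' * v'⁻¹) * v'⁻¹⁻¹ = n' by group] at this
        have := mul_mem (inv_mem h4) h1
        rwa [inv_mul_cancel_left] at this
      have h5 := mul_mem h1 (hAn.conj_mem _ h2 s⁻¹)
      rwa [show n' * s * (s⁻¹ * (v' * n' * v'⁻¹ * s) * s⁻¹⁻¹) = n' * (v' * n' * v'⁻¹) * (s * s) by
        group, hss, mul_one] at h5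
  have hsqz : ∀ g : P, g * g * (g * g) = 1 → g * g ≠ 1 → g * g = z := fun g h1 h2 =>
    (huniq _ (hsqA g) h1).resolve_left h2
  -- choice of `u`
  obtain ⟨u, hu1, e, he, he4⟩ := exists_trivial_mod_four (U := U) hU4
    (R := fun (u : U) e => inclusion hUP u * a * (inclusion hUP u)⁻¹ = a ^ e) (fun u => by
      obtain ⟨e, he⟩ := CfsgLib.Coprime.exists_conj_exp (u := a) (inclusion hUP u)
      refine ⟨e, he, ?_⟩
      rintro ⟨c, rfl⟩
      have h1 : orderOf (a ^ (2 * c)) = 2 ^ m := by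
        rw [← he, ← hm]; exact (MulAut.conj (inclusion hUP u)).orderOf_eq a
      have h2 : (a ^ (2 * c)) ^ 2 ^ (m - 1) = 1 := by
        rw [← zpow_natCast, ← zpow_mul, ← orderOf_dvd_iff_zpow_eq_one, hm,
          pow_two_int (m := m) (by omega)]
        exact ⟨c, by ring⟩
      have h3 := orderOf_dvd_of_pow_eq_one h2
      rw [h1, Nat.pow_dvd_pow_iff_le_right (by norm_num)] at h3
      omega)
    (fun u v e f hu hv => by
      simp only [map_mul]
      rw [show inclusion hUP u * inclusion hUP v * a * (inclusion hUP u * inclusion hUP v)⁻¹ =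
        inclusion hUP u * (inclusion hUP v * a * (inclusion hUP v)⁻¹) * (inclusion hUP u)⁻¹ by group,
        hv, CfsgLib.ClassK.conj_zpow_of_conj hu])
    (fun u => Subtype.ext (hU2 u u.2))
  set p := inclusion hUP u with hp
  have hpp : p * p = 1 := Subtype.ext (hU2 u u.2)
  have hpinv : p⁻¹ = p := inv_eq_of_mul_eq_one_right hpp
  have hu1' : (u : G) ≠ 1 := fun e => hu1 (Subtype.ext e)
  have hpz : p * z = z * p := hzc p
  have hfour : ∀ w : P, w ∈ N → w * w = 1 → w ∉ zpowers a → p * w = w * p → False := by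
    intro w hw hww hwA hpw
    refine hwA ?_
    rw [← show z = w from Subtype.ext (hfix u u.2 hu1' z (mem_subgroupOf.1 (zpow_mem haN _)) w
      (mem_subgroupOf.1 hw) (congrArg Subtype.val hzz) (congrArg Subtype.val hww)
      (fun e => hz1 (Subtype.ext e)) (fun e => hwA ((Subtype.ext e : w = 1) ▸ one_mem _))
      (congrArg Subtype.val (hzc w).symm) (congrArg Subtype.val hpz) (congrArg Subtype.val hpw))]
    exact hzA
  -- `p` moves `s` to `z * s`
  have hps : p * s * p⁻¹ = z * s := by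
    have hs' : p * s * p⁻¹ ∈ N := (inferInstance : N.Normal).conj_mem s hsN p
    have hj : p * s * p⁻¹ * s ∈ zpowers a := (hcos _ hs').resolve_left fun h => hsA (by
      have := hAn.conj_mem _ h p⁻¹
      rwa [show p⁻¹ * (p * s * p⁻¹) * p⁻¹⁻¹ = s by group] at this)
    obtain ⟨j, hj⟩ := mem_zpowers_iff.1 hj
    have hps' : p * s * p⁻¹ = a ^ j * s := by
      rw [hj, mul_assoc (p * s * p⁻¹) s s, hss, mul_one]
    have h1 : a ^ (e * j + j) = 1 := by
      have h2 : p * (a ^ j * s) * p⁻¹ = s := by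
        rw [← hps', show p * (p * s * p⁻¹) * p⁻¹ = (p * p) * s * (p * p)⁻¹ by group, hpp]; group
      rw [show p * (a ^ j * s) * p⁻¹ = (p * a ^ j * p⁻¹) * (p * s * p⁻¹) by group,
        CfsgLib.ClassK.conj_zpow_of_conj he, hps', ← mul_assoc, ← zpow_add] at h2
      exact mul_eq_right.1 h2
    obtain ⟨o, ho⟩ : ∃ o : ℤ, e + 1 = 2 * (2 * o + 1) := by
      obtain ⟨c, hc⟩ := he4
      exact ⟨c, by linarith⟩
    rw [← orderOf_dvd_iff_zpow_eq_one, hm, pow_two_int (m := m) (by omega),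
      show e * j + j = 2 * ((2 * o + 1) * j) by rw [← add_one_mul, ho]; ring] at h1
    have h3 : ((2 ^ (m - 1) : ℕ) : ℤ) ∣ j := by
      refine IsCoprime.dvd_of_dvd_mul_left ?_ ((mul_dvd_mul_iff_left two_ne_zero).1 h1)
      push_cast
      exact (show IsCoprime (2 : ℤ) (2 * o + 1) from ⟨-o, 1, by ring⟩).pow_left
    rcases huniq (a ^ j) (zpow_mem (mem_zpowers a) j) (by
      obtain ⟨f, rfl⟩ := h3
      rw [← zpow_add, ← orderOf_dvd_iff_zpow_eq_one, hm, pow_two_int (m := m) (by omega)]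
      exact ⟨f, by ring⟩) with e1 | e1
    · exact (hfour s hsN hss hsA (mul_inv_eq_iff_eq_mul.1 (by rw [hps', e1, one_mul]))).elim
    · rw [hps', e1]
  -- the element `c` of order four centralizing `s`
  set t : P := a ^ ((2 ^ (m - 2) : ℕ) : ℤ) with ht
  have e2 : ((2 ^ (m - 1) : ℕ) : ℤ) = 2 * ((2 ^ (m - 2) : ℕ) : ℤ) := by
    push_cast
    rw [← pow_succ']; congr 1; omega
  have htt : t * t = z := by rw [ht, hz, ← zpow_add, e2, two_mul]
  have hpt : p * t = t * p := by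
    refine mul_inv_eq_iff_eq_mul.1 ?_
    rw [ht, CfsgLib.ClassK.conj_zpow_of_conj he, CfsgLib.Coprime.zpow_eq_iff_dvd hm]
    obtain ⟨c, hc⟩ := he4
    refine ⟨c, ?_⟩
    rw [pow_two_int (m := m) (by omega), e2]
    linear_combination ((2 ^ (m - 2) : ℕ) : ℤ) * hc
  have hst : s * t * s⁻¹ = t * z := by
    rw [ht, CfsgLib.ClassK.conj_zpow_of_conj hk, hz, ← zpow_add,
      CfsgLib.Coprime.zpow_eq_iff_dvd hm]
    obtain ⟨c, hc⟩ := hk4
    refine ⟨c - 1, ?_⟩
    rw [pow_two_int (m := m) (by omega), e2]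
    linear_combination ((2 ^ (m - 2) : ℕ) : ℤ) * hc
  obtain ⟨c, hcdef⟩ : ∃ c : P, c = p * t := ⟨_, rfl⟩
  have hcc : c * c = z := by
    calc c * c = p * (t * p) * t := by rw [hcdef]; group
      _ = (p * p) * (t * t) := by rw [← hpt]; group
      _ = z := by rw [hpp, one_mul, htt]
  have hcs : c * s = s * c := by
    have h1 : t * s = z * s * t := by
      have h2 : s * t = t * z * s := mul_inv_eq_iff_eq_mul.1 hst
      calc t * s = t * (z * z) * s := by rw [hzz, mul_one]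
        _ = z * (t * z * s) := by rw [← mul_assoc t z z, (hzc (t * z)).symm.symm]; group
        _ = z * s * t := by rw [← h2, mul_assoc]
    calc c * s = p * (t * s) := by rw [hcdef, mul_assoc]
      _ = p * (z * s * t) := by rw [h1]
      _ = (p * z) * (p⁻¹ * (p * s * p⁻¹) * p) * t := by group
      _ = (z * p) * (p⁻¹ * (z * s) * p) * t := by rw [hps, hpz]
      _ = (z * z) * s * (p * t) := by group
      _ = s * c := by rw [hzz, one_mul, hcdef]
  -- fusion of `s` and `z` in `L`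
  have hQind : ((zpowers (⟨(a : G), mem_subgroupOf.1 haN⟩ : L))).relIndex (Q : Subgroup L) = 2 := by
    have hsA' : (⟨(s : G), mem_subgroupOf.1 hsN⟩ : L) ∈ (Q : Subgroup L) := by
      rw [hQS]; exact mem_subgroupOf.2 (mem_inf.2 ⟨mem_subgroupOf.1 hsN, s.2⟩)
    have hlift : ∀ (w : L) (hw : (w : G) ∈ P),
        w ∈ zpowers (⟨(a : G), mem_subgroupOf.1 haN⟩ : L) ↔ (⟨w, hw⟩ : P) ∈ zpowers a := by
      intro w hw
      simp only [mem_zpowers_iff, Subtype.ext_iff]
      push_cast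
      rfl
    refine index_eq_two_iff.2 ⟨⟨_, hsA'⟩, fun b => ?_⟩
    have hbS : ((b : L) : G) ∈ S := mem_subgroupOf.1 (hQS ▸ b.2)
    have hbP := (mem_inf.1 hbS).2
    have hbN : (⟨_, hbP⟩ : P) ∈ N := mem_subgroupOf.2 (mem_inf.1 hbS).1
    simp only [mem_subgroupOf, Xor', coe_mul]
    rw [hlift _ (by simpa using mul_mem hbP s.2), hlift _ hbP]
    rcases hcos _ hbN with h | h
    · refine Or.inr ⟨h, fun h' => hsA ?_⟩
      have := mul_mem (inv_mem h) h'
      convert this using 1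
      exact (inv_mul_cancel_left _ _).symm
    · refine Or.inl ⟨?_, fun h' => hsA ?_⟩
      · exact h
      · have := mul_mem (inv_mem h') h
        rwa [inv_mul_cancel_left] at this
  obtain ⟨g, hg⟩ : ∃ g : L, g * ⟨(s : G), mem_subgroupOf.1 hsN⟩ * g⁻¹ ∈
      zpowers (⟨(a : G), mem_subgroupOf.1 haN⟩ : L) := by
    refine (CfsgLib.Transfer.thompson_transfer_involution Q ?_ hQind
      (Subtype.ext (show ((s : G)) ^ 2 = 1 by rw [sq]; exact congrArg (Subtype.val : P → G) hss)) ?_).resolve_left ?_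
    · rw [zpowers_le, hQS]; exact mem_subgroupOf.2 (mem_inf.2 ⟨mem_subgroupOf.1 haN, a.2⟩)
    · rw [hQS]; exact mem_subgroupOf.2 (mem_inf.2 ⟨mem_subgroupOf.1 hsN, s.2⟩)
    · rintro ⟨K, hKn, hKi, -⟩
      haveI : Fact (Nat.Prime 2) := ⟨Nat.prime_two⟩
      haveI : IsCyclic (L ⧸ K) := isCyclic_of_prime_card (p := 2) (by rw [← index_eq_card, hKi])
      have hle : ⁅(⊤ : Subgroup L), (⊤ : Subgroup L)⁆ ≤ K :=
        (Normal.quotient_commutative_iff_commutator_le (N := K)).1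
          ⟨⟨fun u v => by let _ := IsCyclic.commGroup (α := L ⧸ K); exact mul_comm u v⟩⟩
      rw [hperf, top_le_iff] at hle
      rw [hle, index_top] at hKi
      omega
  obtain ⟨i, hi⟩ := mem_zpowers_iff.1 hg
  have hgs : (g : G) * s * (g : G)⁻¹ = z := by
    have hgi : (g : G) * s * (g : G)⁻¹ = ((a ^ i : P) : G) := by
      have := congrArg Subtype.val hi
      push_cast at this ⊢
      exact this.symm
    rcases huniq (a ^ i) (zpow_mem (mem_zpowers a) i) (Subtype.ext (by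
      push_cast
      push_cast at hgi
      rw [← hgi, show (g : G) * s * (g : G)⁻¹ * ((g : G) * s * (g : G)⁻¹) =
        (g : G) * (s * s) * (g : G)⁻¹ by group, show (s : G) * s = 1 from congrArg Subtype.val hss]
      group)) with e1 | e1
    · rw [e1] at hgi
      exact absurd ((Subtype.ext (conj_eq_one_iff.1 hgi) : s = 1) ▸ one_mem _) hsA
    · rw [hgi, e1]
  -- Sylow in the centralizer of `s` in `M`
  set γ : M := ⟨(g : G), hLM g.2⟩
  set σ : M := ⟨(s : G), hPM s.2⟩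
  set H : Subgroup M := centralizer {σ}
  set P2 : Sylow 2 M := γ⁻¹ • P' with hP2
  have hP2H : (P2 : Subgroup M) ≤ H := by
    intro w hw
    obtain ⟨w', hw', rfl⟩ := hw
    refine mem_centralizer_singleton_iff.2 (Subtype.ext ?_)
    show (g : G)⁻¹ * (w' : G) * (g : G)⁻¹⁻¹ * s = s * ((g : G)⁻¹ * (w' : G) * (g : G)⁻¹⁻¹)
    have h1 : (w' : G) * z = z * w' := congrArg Subtype.val (hzc ⟨w', ⟨w', hw', rfl⟩⟩)
    have h2 : (s : G) = (g : G)⁻¹ * z * g := by rw [← hgs]; group
    rw [h2]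
    calc (g : G)⁻¹ * (w' : G) * (g : G)⁻¹⁻¹ * ((g : G)⁻¹ * z * g)
        = (g : G)⁻¹ * ((w' : G) * z) * g := by group
      _ = (g : G)⁻¹ * (z * w') * g := by rw [h1]
      _ = _ := by group
  set γc : M := ⟨(c : G), hPM c.2⟩
  have hcH : γc ∈ H := mem_centralizer_singleton_iff.2 (Subtype.ext (congrArg (Subtype.val : P → G) hcs : (c : G) * s = s * c))
  obtain ⟨R', hR'⟩ := (P'.2.to_le (zpowers_le.2 (show γc ∈ (P' : Subgroup M) by
      obtain ⟨w, hw, e⟩ := c.2
      rwa [show γc = w from Subtype.ext e.symm])) : IsPGroup 2 (zpowers γc)).of_equiv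
      (subgroupOfEquivOfLe (zpowers_le.2 hcH)).symm |>.exists_le_sylow
  obtain ⟨h, hh⟩ := MulAction.exists_smul_eq H R' (P2.subtype hP2H)
  have h1 : (h : M) * γc * (h : M)⁻¹ ∈ (P2 : Subgroup M) := by
    have h2 : h * ⟨γc, hcH⟩ * h⁻¹ ∈ (P2.subtype hP2H : Subgroup H) := by
      rw [← hh]
      exact ⟨_, hR' (mem_subgroupOf.2 (mem_zpowers γc)), rfl⟩
    exact h2
  obtain ⟨w, hw, hwe⟩ := h1
  set ω : P := ⟨(w : G), ⟨w, hw, rfl⟩⟩
  have hwG : (g : G)⁻¹ * w * (g : G)⁻¹⁻¹ = (h : M) * (c : G) * ((h : M) : G)⁻¹ :=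
    congrArg Subtype.val hwe
  have hω : ((ω * ω : P) : G) = (g : G) * ((h : M) : G) * z * ((h : M) : G)⁻¹ * (g : G)⁻¹ := by
    have hw2 : (w : G) = (g : G) * (((h : M) : G) * c * ((h : M) : G)⁻¹) * (g : G)⁻¹ := by
      rw [← hwG]; group
    rw [← congrArg Subtype.val hcc]
    show (w : G) * w = _
    rw [hw2]; push_cast; group
  have hhs : ((h : M) : G) * s = s * ((h : M) : G) :=
    congrArg Subtype.val (mem_centralizer_singleton_iff.1 h.2)
  have hωz : ω * ω = z := by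
    refine hsqz ω (Subtype.ext ?_) fun e => hz1 (Subtype.ext ?_)
    · rw [coe_mul, hω, coe_one]
      calc _ = ((g : G) * ((h : M) : G)) * ((z : G) * z) * ((g : G) * ((h : M) : G))⁻¹ := by group
        _ = 1 := by rw [show (z : G) * z = 1 from congrArg Subtype.val hzz]; group
    · have := hω
      rw [e, coe_one] at this
      rw [coe_one]
      calc (z : G) = ((g : G) * ((h : M) : G))⁻¹ *
            ((g : G) * ((h : M) : G) * z * ((h : M) : G)⁻¹ * (g : G)⁻¹) *
            ((g : G) * ((h : M) : G)) := by group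
        _ = 1 := by rw [← this]; group
  rw [hωz] at hω
  have hzs : (z : G) = s := by
    calc (z : G) = ((g : G) * ((h : M) : G))⁻¹ *
          ((g : G) * ((h : M) : G) * z * ((h : M) : G)⁻¹ * (g : G)⁻¹) *
          ((g : G) * ((h : M) : G)) := by group
      _ = ((h : M) : G)⁻¹ * ((g : G)⁻¹ * z * g) * ((h : M) : G) := by rw [← hω]; group
      _ = ((h : M) : G)⁻¹ * (s * ((h : M) : G)) := by rw [← hgs]; group
      _ = s := by rw [← hhs]; group
  exact hsA ((Subtype.ext hzs : z = s) ▸ hzA)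

end CfsgLib.RankOne
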