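import Cfsg.Agent.Lib.Transfer.UniqueOrderP
import Cfsg.Agent.Lib.StructC.UniqueInvol
import Cfsg.Agent.Lib.Coprime.CyclicSelfCentralizing
import Cfsg.Agent.Lib.Invol.FourGroup
import Cfsg.Agent.Lib.ClassK.CyclicNormal

/-!
A normal subgroup `N` of a `2`-group `P` holding no four group normal in `P` has a single involution
or is dihedral or semidihedral over a cyclic subgroup normal in `P`.
-/

set_option autoImplicit false
set_option linter.style.haveILetI false

namespace CfsgLib.RankOne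

open Subgroup

variable {P : Type*} [Group P] [Finite P]

/-- An abelian subgroup maximal among those normal in `P` inside `N` is its own centralizer in `N`. -/
theorem exists_self_centralizing_within {p : ℕ} [Fact p.Prime] (hP : IsPGroup p P) (N : Subgroup P)
    [N.Normal] : ∃ A : Subgroup P, A.Normal ∧ A ≤ N ∧ (∀ a ∈ A, ∀ b ∈ A, a * b = b * a) ∧
      ∀ x ∈ N, (∀ a ∈ A, a * x = x * a) → x ∈ A := by
  obtain ⟨A, ⟨hAn, hAN, hAc⟩, hmax⟩ := Set.Finite.exists_maximalFor id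
    {B : Subgroup P | B.Normal ∧ B ≤ N ∧ ∀ a ∈ B, ∀ b ∈ B, a * b = b * a} (Set.toFinite _)
    ⟨⊥, inferInstance, bot_le, fun a ha b hb => by
      rw [mem_bot.1 ha, mem_bot.1 hb]⟩
  haveI : A.Normal := hAn
  refine ⟨A, hAn, hAN, hAc, ?_⟩
  set C := N ⊓ centralizer (A : Set P) with hC
  have hAC : A ≤ C := le_inf hAN fun a ha => mem_centralizer_iff.2 fun b hb => hAc b hb a ha
  haveI : C.Normal := by rw [hC]; infer_instance
  intro x hxN hx
  by_contra hxA
  have hlt : A < C := lt_of_le_of_ne hAC fun e => hxA (by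
    rw [e]; exact mem_inf.2 ⟨hxN, mem_centralizer_iff.2 hx⟩)
  obtain ⟨y, hyC, hyA, hyc⟩ := CfsgLib.OddLocal.exists_central_mod hP A C hlt
  set B := closure (insert y (A : Set P)) with hB
  have hyB : y ∈ B := subset_closure (Set.mem_insert _ _)
  have hAB : A ≤ B := fun a ha => subset_closure (Set.mem_insert_of_mem _ ha)
  have hBn : B.Normal := by
    refine ⟨fun w hw g => ?_⟩
    refine closure_induction (p := fun v _ => g * v * g⁻¹ ∈ B) ?_ (by simp) ?_ ?_ hw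
    · rintro v (rfl | hv)
      · have h := mul_mem (hAB (hyc g)) hyB
        rwa [inv_mul_cancel_right] at h
      · exact hAB (hAn.conj_mem v hv g)
    · intro u v _ _ hu hv
      have h := mul_mem hu hv
      rwa [show g * u * g⁻¹ * (g * v * g⁻¹) = g * (u * v) * g⁻¹ by group] at h
    · intro u _ hu
      have h := inv_mem hu
      rwa [show (g * u * g⁻¹)⁻¹ = g * u⁻¹ * g⁻¹ by group] at h
  have hcomm : IsMulCommutative B := isMulCommutative_closure (by
    rintro a (rfl | ha) b (rfl | hb)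
    · rfl
    · exact (mem_centralizer_iff.1 (mem_inf.1 hyC).2 b hb).symm
    · exact mem_centralizer_iff.1 (mem_inf.1 hyC).2 a ha
    · exact hAc a ha b hb)
  have hBN : B ≤ N := by
    refine (closure_le _).2 ?_
    rintro v (rfl | hv)
    · exact (mem_inf.1 hyC).1
    · exact hAN hv
  exact hyA ((hmax ⟨hBn, hBN, fun a ha b hb => congrArg Subtype.val
    (hcomm.is_comm.comm ⟨a, ha⟩ ⟨b, hb⟩)⟩ hAB) hyB)

theorem pow_two_int {m : ℕ} (hm : 1 ≤ m) :
    ((2 ^ m : ℕ) : ℤ) = 2 * ((2 ^ (m - 1) : ℕ) : ℤ) := by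
  push_cast
  rw [← pow_succ']; congr 1; omega

/-- An element acting on a cyclic group by `k ≡ 1 mod 4`, `k ≢ 1`, gives a four group normal in `P`. -/
theorem four_of_one_mod_four (hP : IsPGroup 2 P) (N : Subgroup P) [N.Normal] {a g : P} {m : ℕ}
    (ha : orderOf a = 2 ^ m) [(zpowers a).Normal] (haN : a ∈ N)
    (hself : ∀ x ∈ N, x * a = a * x → x ∈ zpowers a)
    (hgN : g ∈ N) (hgA : g ∉ zpowers a) {k : ℤ} (hk : g * a * g⁻¹ = a ^ k) (hk4 : (4 : ℤ) ∣ k - 1) :
    ∃ W : Subgroup P, W ≤ N ∧ W.Normal ∧ Nat.card W = 4 ∧ ∀ w ∈ W, w * w = 1 := by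
  obtain ⟨i, hiA, hi2⟩ := CfsgLib.Coprime.exists_pow_not_mem hP (zpowers a) hgA
  set h := g ^ 2 ^ i with hh
  set l := k ^ 2 ^ i with hl
  have hhN : h ∈ N := pow_mem hgN _
  have hhk : h * a * h⁻¹ = a ^ l := CfsgLib.ClassK.conj_pow_of_conj hk _
  have hl4 : (4 : ℤ) ∣ l - 1 := by
    have := sub_dvd_pow_sub_pow k 1 (2 ^ i)
    rw [one_pow] at this
    exact hk4.trans this
  have hab : ∀ u ∈ zpowers a, ∀ v ∈ zpowers a, u * v = v * u := by
    intro u hu v hv
    obtain ⟨i, rfl⟩ := mem_zpowers_iff.1 hu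
    obtain ⟨j, rfl⟩ := mem_zpowers_iff.1 hv
    exact (Commute.refl a).zpow_zpow i j
  have hl2 : ((2 ^ m : ℕ) : ℤ) ∣ l * l - 1 := by
    rw [← CfsgLib.Coprime.zpow_eq_iff_dvd ha, zpow_one]
    have e : h ^ 2 * a * (h ^ 2)⁻¹ = a ^ (l ^ 2) := CfsgLib.ClassK.conj_pow_of_conj hhk 2
    rw [hab _ hi2 a (mem_zpowers a), mul_inv_cancel_right, sq] at e
    exact e.symm
  have hl1 : ¬ ((2 ^ m : ℕ) : ℤ) ∣ l - 1 := by
    intro hd
    refine hiA (hself h hhN ?_)
    have e : a ^ l = a := by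
      conv_rhs => rw [← zpow_one a]
      exact (CfsgLib.Coprime.zpow_eq_iff_dvd ha).2 hd
    rw [e, mul_inv_eq_iff_eq_mul] at hhk
    exact hhk
  have hm : 3 ≤ m := by
    by_contra hlt
    refine hl1 (dvd_trans ?_ hl4)
    exact_mod_cast (Nat.pow_dvd_pow 2 (by omega : m ≤ 2))
  obtain ⟨o, ho⟩ : ∃ o : ℤ, l + 1 = 2 * (2 * o + 1) := by
    obtain ⟨c, hc⟩ := hl4
    exact ⟨c, by linarith⟩
  have hcop : IsCoprime ((2 ^ m : ℕ) : ℤ) (2 * o + 1) := by
    push_cast
    exact (show IsCoprime (2 : ℤ) (2 * o + 1) from ⟨-o, 1, by ring⟩).pow_left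
  have hhalf : ((2 ^ (m - 1) : ℕ) : ℤ) ∣ l - 1 := by
    have e := hl2
    rw [show l * l - 1 = 2 * ((l - 1) * (2 * o + 1)) by
      rw [show l * l - 1 = (l - 1) * (l + 1) by ring, ho]; ring, pow_two_int (m := m) (by omega)] at e
    exact (IsCoprime.pow_left (m := m - 1)
      (show IsCoprime (2 : ℤ) (2 * o + 1) from ⟨-o, 1, by ring⟩)).dvd_of_dvd_mul_right
        (by exact_mod_cast (mul_dvd_mul_iff_left two_ne_zero).1 e) |> fun h => by exact_mod_cast h
  -- an involution in the coset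
  obtain ⟨d, hd⟩ := mem_zpowers_iff.1 hi2
  have hdfix : ((2 ^ m : ℕ) : ℤ) ∣ l * d - d := by
    rw [← CfsgLib.Coprime.zpow_eq_iff_dvd ha, ← CfsgLib.ClassK.conj_zpow_of_conj hhk d, hd]
    group
  obtain ⟨d', hd'⟩ : (2 : ℤ) ∣ d := by
    by_contra hodd
    refine hl1 ?_
    have hc2 : IsCoprime (2 : ℤ) d := (Int.prime_two.coprime_iff_not_dvd).2 hodd
    rw [show l * d - d = (l - 1) * d by ring] at hdfix
    refine (IsCoprime.dvd_of_dvd_mul_right ?_ hdfix)
    push_cast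
    exact hc2.pow_left
  obtain ⟨v, u, huv⟩ := hcop
  set t := h * a ^ (-d' * u) with ht
  have htN : t ∈ N := mul_mem hhN (zpow_mem haN _)
  have htA : t ∉ zpowers a := fun e => hiA (by
    have := mul_mem e (zpow_mem (mem_zpowers a) (d' * u))
    rwa [ht, mul_assoc, ← zpow_add, neg_mul, neg_add_cancel, zpow_zero, mul_one] at this)
  have htk : t * a * t⁻¹ = a ^ l := by
    rw [ht, ← hhk]; group
  have htt : t * t = 1 := by
    have e : t * t = a ^ (l * (-d' * u) + d + -d' * u) := by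
      rw [zpow_add, zpow_add, hd, ← CfsgLib.ClassK.conj_zpow_of_conj hhk (-d' * u), ht]
      group
    rw [e, ← orderOf_dvd_iff_zpow_eq_one, ha]
    refine ⟨2 * d' * v, ?_⟩
    rw [hd']
    have : (2 * o + 1) * u = 1 - ((2 ^ m : ℕ) : ℤ) * v := by linarith
    linear_combination (-(d' * u)) * ho - (2 * d') * this
  -- the four group
  set z := a ^ ((2 ^ (m - 1) : ℕ) : ℤ) with hz
  have hzz : z * z = 1 := by
    rw [hz, ← zpow_add, ← orderOf_dvd_iff_zpow_eq_one, ha, pow_two_int (m := m) (by omega)]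
    exact ⟨1, by ring⟩
  have hz1 : z ≠ 1 := by
    intro e
    rw [hz, ← orderOf_dvd_iff_zpow_eq_one, ha, Int.natCast_dvd_natCast,
      Nat.pow_dvd_pow_iff_le_right (by norm_num)] at e
    omega
  have hinv : ∀ w ∈ zpowers a, t * w * (t * w) = 1 → w = 1 ∨ w = z := by
    intro w hw e
    obtain ⟨j, rfl⟩ := mem_zpowers_iff.1 hw
    have e2 : a ^ (l * j + j) = 1 := by
      rw [zpow_add, ← CfsgLib.ClassK.conj_zpow_of_conj htk j]
      rw [inv_eq_of_mul_eq_one_right htt, mul_assoc]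
      rw [mul_assoc] at e ⊢
      exact e
    rw [← orderOf_dvd_iff_zpow_eq_one, ha, pow_two_int (m := m) (by omega),
      show l * j + j = 2 * ((2 * o + 1) * j) by rw [← add_one_mul, ho]; ring] at e2
    have e3 : ((2 ^ (m - 1) : ℕ) : ℤ) ∣ j := by
      refine IsCoprime.dvd_of_dvd_mul_left ?_ ((mul_dvd_mul_iff_left two_ne_zero).1 e2)
      push_cast
      exact (show IsCoprime (2 : ℤ) (2 * o + 1) from ⟨-o, 1, by ring⟩).pow_left
    obtain ⟨f, rfl⟩ := e3
    rcases Int.even_or_odd' f with ⟨r, rfl | rfl⟩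
    · left
      rw [← orderOf_dvd_iff_zpow_eq_one, ha, pow_two_int (m := m) (by omega)]
      exact ⟨r, by ring⟩
    · right
      rw [hz, CfsgLib.Coprime.zpow_eq_iff_dvd ha, pow_two_int (m := m) (by omega)]
      exact ⟨r, by ring⟩
  have hzc : z * t = t * z := by
    have e : t * z * t⁻¹ = z := by
      rw [hz, CfsgLib.ClassK.conj_zpow_of_conj htk, CfsgLib.Coprime.zpow_eq_iff_dvd ha]
      obtain ⟨c, hc⟩ := hl4
      refine ⟨2 * c, ?_⟩
      rw [pow_two_int (m := m) (by omega)]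
      linear_combination ((2 ^ (m - 1) : ℕ) : ℤ) * hc
    exact (mul_inv_eq_iff_eq_mul.1 e).symm
  have ht1 : t ≠ 1 := fun e => htA (e ▸ one_mem _)
  have hzA : z ∈ zpowers a := zpow_mem (mem_zpowers a) _
  obtain ⟨W, hW, hW4, -, hWsq⟩ := CfsgLib.Invol.exists_four hzz htt hzc hz1 ht1
    (fun e => htA (e ▸ hzA))
  have hzW : z ∈ W := (hW z).2 (Or.inr (Or.inl rfl))
  have hzfix : ∀ y : P, y * z * y⁻¹ = z := by
    intro y
    obtain ⟨j, hj⟩ := mem_zpowers_iff.1 ((inferInstance : (zpowers a).Normal).conj_mem z hzA y)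
    have h1 : (y * z * y⁻¹) * (y * z * y⁻¹) = 1 := by
      rw [show (y * z * y⁻¹) * (y * z * y⁻¹) = y * (z * z) * y⁻¹ by group, hzz]; group
    rw [← hj, ← zpow_add, ← orderOf_dvd_iff_zpow_eq_one, ha, pow_two_int (m := m) (by omega),
      ← two_mul, mul_dvd_mul_iff_left two_ne_zero] at h1
    obtain ⟨f, rfl⟩ := h1
    rcases Int.even_or_odd' f with ⟨r, rfl | rfl⟩
    · exfalso
      refine hz1 ((conj_eq_one_iff (a := y)).1 ?_)
      rw [← hj, ← orderOf_dvd_iff_zpow_eq_one, ha, pow_two_int (m := m) (by omega)]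
      exact ⟨r, by ring⟩
    · rw [← hj, hz, CfsgLib.Coprime.zpow_eq_iff_dvd ha, pow_two_int (m := m) (by omega)]
      exact ⟨r, by ring⟩
  have htconj : ∀ y : P, y * t * y⁻¹ ∈ W := by
    intro y
    set t' := y * t * y⁻¹ with ht'
    have h1 : t' * t' = 1 := by
      rw [ht', show (y * t * y⁻¹) * (y * t * y⁻¹) = y * (t * t) * y⁻¹ by group, htt]; group
    obtain ⟨f, hf⟩ := CfsgLib.Coprime.exists_conj_exp (u := a) y⁻¹
    rw [inv_inv] at hf
    have h2 : t' * a * t'⁻¹ = a ^ l := by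
      calc t' * a * t'⁻¹ = y * (t * (y⁻¹ * a * y) * t⁻¹) * y⁻¹ := by rw [ht']; group
        _ = y * (t * a ^ f * t⁻¹) * y⁻¹ := by rw [hf]
        _ = y * (a ^ f) ^ l * y⁻¹ := by
          rw [CfsgLib.ClassK.conj_zpow_of_conj htk, ← zpow_mul, mul_comm f l]
        _ = (y * a ^ f * y⁻¹) ^ l := conj_zpow.symm
        _ = a ^ l := by rw [← hf]; group
    have h3 : t⁻¹ * t' ∈ zpowers a := by
      refine hself _ (mul_mem (inv_mem htN) ((inferInstance : N.Normal).conj_mem t htN y)) ?_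
      have h4 : t' * a = a ^ l * t' := mul_inv_eq_iff_eq_mul.1 h2
      rw [mul_assoc, h4, ← htk]
      group
    have h4 : t' = t * (t⁻¹ * t') := by group
    rcases hinv _ h3 (by rw [← h4]; exact h1) with e | e <;> rw [h4, e]
    · rw [mul_one]; exact (hW t).2 (by simp)
    · rw [← hzc]; exact (hW _).2 (by simp)
  refine ⟨W, fun w hw => ?_, ⟨fun w hw y => ?_⟩, hW4, hWsq⟩
  · rcases (hW w).1 hw with rfl | rfl | rfl | rfl
    · exact one_mem _
    · exact zpow_mem haN _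
    · exact htN
    · exact mul_mem (zpow_mem haN _) htN
  · rcases (hW w).1 hw with h | h | h | h <;> rw [h]
    · simp
    · rw [hzfix]; exact hzW
    · exact htconj y
    · rw [show y * (z * t) * y⁻¹ = (y * z * y⁻¹) * (y * t * y⁻¹) by group, hzfix]
      exact mul_mem hzW (htconj y)

/-- No four group normal in `P` inside `N`: a single involution, or dihedral/semidihedral shape. -/
theorem unique_or_dihedral_shape (hP : IsPGroup 2 P) (N : Subgroup P) [N.Normal]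
    (hno : ¬ ∃ W : Subgroup P, W ≤ N ∧ W.Normal ∧ Nat.card W = 4 ∧ ∀ w ∈ W, w * w = 1) :
    (∀ x ∈ N, ∀ y ∈ N, x * x = 1 → y * y = 1 → x ≠ 1 → y ≠ 1 → x = y) ∨
      ∃ (a s : P) (m : ℕ) (k : ℤ), 2 ≤ m ∧ orderOf a = 2 ^ m ∧ (zpowers a).Normal ∧ a ∈ N ∧
        s ∈ N ∧ s * s = 1 ∧ s ∉ zpowers a ∧ (∀ x ∈ N, x ∈ zpowers a ∨ x * s ∈ zpowers a) ∧
        s * a * s⁻¹ = a ^ k ∧ (4 : ℤ) ∣ k + 1 := by
  classical
  haveI : Fact (Nat.Prime 2) := ⟨Nat.prime_two⟩
  obtain ⟨A, hAn, hAN, hAc, hself⟩ := exists_self_centralizing_within hP N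
  haveI := hAn
  have hAu : ∀ x ∈ A, ∀ y ∈ A, x * x = 1 → y * y = 1 → x ≠ 1 → y ≠ 1 → x = y := by
    intro x hx y hy hxx hyy hx1 hy1
    by_contra hne
    let V : Subgroup P :=
      { carrier := {w | w ∈ A ∧ w * w = 1}
        one_mem' := ⟨one_mem _, mul_one _⟩
        mul_mem' := fun {u v} hu hv => ⟨mul_mem hu.1 hv.1, by
          rw [(show Commute v u from hAc v hv.1 u hu.1).mul_mul_mul_comm, hu.2, hv.2, mul_one]⟩
        inv_mem' := fun {u} hu => ⟨inv_mem hu.1, by rw [← mul_inv_rev, hu.2, inv_one]⟩ }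
    have hVn : V.Normal := ⟨fun w hw g => ⟨hAn.conj_mem w hw.1 g, by
      rw [show (g * w * g⁻¹) * (g * w * g⁻¹) = g * (w * w) * g⁻¹ by group, hw.2]; group⟩⟩
    have h3 : 2 < Nat.card V := by
      have hsub : ({1, x, y} : Set P) ⊆ (V : Set P) := by
        rintro w (rfl | rfl | rfl)
        · exact one_mem V
        · exact ⟨hx, hxx⟩
        · exact ⟨hy, hyy⟩
      have h := Set.ncard_le_ncard hsub (Set.toFinite _)
      rw [Set.ncard_insert_of_notMem (by simp [Ne.symm hx1, Ne.symm hy1]),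
        Set.ncard_pair hne] at h
      rw [← SetLike.coe_sort_coe, Nat.card_coe_set_eq]
      omega
    obtain ⟨W, hWn, hWV, hWc⟩ := CfsgLib.Transfer.exists_normal_le_card hP V (k := 2) (by
      obtain ⟨j, hj⟩ := (hP.to_subgroup V).exists_card_eq
      rw [hj] at h3 ⊢
      refine pow_dvd_pow 2 ?_
      rcases j with _ | _ | j <;> simp_all)
    exact hno ⟨W, fun w hw => hAN (hWV hw).1, hWn, by rw [hWc]; norm_num, fun w hw => (hWV hw).2⟩
  have hcyc : IsCyclic A := by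
    haveI hcomm : IsMulCommutative A := ⟨⟨fun u v => Subtype.ext (hAc u u.2 v v.2)⟩⟩
    have h := CfsgLib.StructC.isCyclic_of_comm_of_unique (p := 2) (hP.to_subgroup A) (fun u v hu hv _ => by
      have hu' := orderOf_eq_prime_iff.1 hu
      have hv' := orderOf_eq_prime_iff.1 hv
      rw [show v = u from Subtype.ext (hAu v v.2 u u.2
        (by rw [← sq]; exact congrArg Subtype.val hv'.1)
        (by rw [← sq]; exact congrArg Subtype.val hu'.1)
        (fun e => hv'.2 (Subtype.ext e)) (fun e => hu'.2 (Subtype.ext e)))]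
      exact mem_zpowers u) ⊤ ⟨⟨fun u v => mul_comm' u v⟩⟩
    exact topEquiv.isCyclic.1 h
  obtain ⟨a, rfl⟩ := (Subgroup.isCyclic_iff_exists_zpowers_eq_top A).1 hcyc
  have haN : a ∈ N := hAN (mem_zpowers a)
  have hself' : ∀ x ∈ N, x * a = a * x → x ∈ zpowers a := fun x hx e => hself x hx fun b hb => by
    obtain ⟨i, rfl⟩ := mem_zpowers_iff.1 hb
    exact ((show Commute a x from e.symm).zpow_left i).eq
  obtain ⟨m, hm⟩ : ∃ m, orderOf a = 2 ^ m := by
    obtain ⟨j, hj⟩ := hP.exists_card_eq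
    obtain ⟨i, -, hi⟩ := (Nat.dvd_prime_pow Nat.prime_two).1 (hj ▸ _root_.orderOf_dvd_natCard a)
    exact ⟨i, hi⟩
  have hmod : ∀ x ∈ N, x ∉ zpowers a → ∀ k : ℤ, x * a * x⁻¹ = a ^ k → ¬ (4 : ℤ) ∣ k - 1 :=
    fun x hx hxA k hk hk4 => hno (four_of_one_mod_four hP N hm haN hself' hx hxA hk hk4)
  by_cases hinv : ∃ s ∈ N, s * s = 1 ∧ s ∉ zpowers a
  swap
  · left
    push_neg at hinv
    exact fun x hx y hy hxx hyy => hAu x (hinv x hx hxx) y (hinv y hy hyy) hxx hyy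
  obtain ⟨s, hsN, hss, hsA⟩ := hinv
  have hm2 : 2 ≤ m := by
    by_contra hlt
    refine hsA (hself' s hsN ?_)
    obtain ⟨k, hk⟩ := CfsgLib.Coprime.exists_conj_exp (u := a) s
    have ha2 : a * a = 1 := by
      rw [← sq, ← orderOf_dvd_iff_pow_eq_one, hm]
      exact Nat.pow_dvd_pow 2 (by omega : m ≤ 1)
    rcases eq_or_ne a 1 with e | e
    · rw [e, mul_one, one_mul]
    · refine mul_inv_eq_iff_eq_mul.1 ?_
      exact hAu _ (hAn.conj_mem a (mem_zpowers a) s) a (mem_zpowers a)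
        (by rw [show (s * a * s⁻¹) * (s * a * s⁻¹) = s * (a * a) * s⁻¹ by group, ha2]; group)
        ha2 (fun e' => e (conj_eq_one_iff.1 e')) e
  have hodd : ∀ x : P, ∀ k : ℤ, x * a * x⁻¹ = a ^ k → ¬ (2 : ℤ) ∣ k := by
    rintro x k hk ⟨c, rfl⟩
    have h1 : orderOf (a ^ (2 * c)) = 2 ^ m := by
      rw [← hk, ← hm]; exact (MulAut.conj x).orderOf_eq a
    have h2 : (a ^ (2 * c)) ^ 2 ^ (m - 1) = 1 := by
      rw [← zpow_natCast, ← zpow_mul, ← orderOf_dvd_iff_zpow_eq_one, hm,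
        pow_two_int (m := m) (by omega)]
      exact ⟨c, by ring⟩
    have h3 := orderOf_dvd_of_pow_eq_one h2
    rw [h1, Nat.pow_dvd_pow_iff_le_right (by norm_num)] at h3
    omega
  obtain ⟨k, hk⟩ := CfsgLib.Coprime.exists_conj_exp (u := a) s
  have hk4 : (4 : ℤ) ∣ k + 1 := by
    have h1 := hmod s hsN hsA k hk
    have h2 := hodd s k hk
    omega
  refine Or.inr ⟨a, s, m, k, hm2, hm, hAn, haN, hsN, hss, hsA, fun x hx => ?_, hk, hk4⟩
  by_contra! hcon
  obtain ⟨e, he⟩ := CfsgLib.Coprime.exists_conj_exp (u := a) x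
  have h1 := hmod x hx hcon.1 e he
  have h2 := hodd x e he
  obtain ⟨c, hc⟩ := hk4
  obtain ⟨d, hd⟩ : (4 : ℤ) ∣ e + 1 := by omega
  refine hmod (x * s) (mul_mem hx hsN) hcon.2 (e * k) ?_ ⟨4 * c * d - c - d, ?_⟩
  · rw [zpow_mul, ← he, conj_zpow, ← hk]; group
  · have e1 : k = 4 * c - 1 := by linarith
    have e2 : e = 4 * d - 1 := by linarith
    rw [e1, e2]; ring

end CfsgLib.RankOne
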